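import Cfsg.Agent.Lib.BN.ZassBasic
import Cfsg.Agent.Lib.Invol.Sylow2
import Cfsg.Agent.Lib.Core.Basic

/-! Doubly transitive groups with an involution whose centralizer has uniform fixity: counting. -/

set_option autoImplicit false
set_option linter.unusedSectionVars false

namespace Cfsg.Lib.UF

open MulAction Subgroup Cfsg.Lib.BN Cfsg.Lib.Invol

theorem ncard_fib {α β : Type*} [Finite α] [Finite β] (f : α → β) (s : Set α) (t : Set β) (k : ℕ)
    (hm : ∀ x ∈ s, f x ∈ t) (hk : ∀ y ∈ t, {x | x ∈ s ∧ f x = y}.ncard = k) : s.ncard = t.ncard * k := by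
  classical
  haveI := Fintype.ofFinite α
  haveI := Fintype.ofFinite β
  rw [Set.ncard_eq_toFinset_card' s, Set.ncard_eq_toFinset_card' t,
    Finset.card_eq_sum_card_fiberwise (f := f) (t := t.toFinset) (by simpa [Set.MapsTo] using hm),
    Finset.sum_congr rfl (g := fun _ => k), Finset.sum_const, smul_eq_mul]
  intro y hy
  rw [← hk y (by simpa using hy), Set.ncard_eq_toFinset_card']
  congr 1; ext; simp

variable {G Ω : Type*} [Group G] [Finite G] [MulAction G Ω] [Finite Ω] {a b c d x y z : Ω} {g h k s t u v : G} {i : ℕ}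

local notation "𝐂" g => centralizer ({g} : Set G)

theorem ncard_coset (K : Subgroup G) (e : G ≃ G) {S : Set G} (h : ∀ g, g ∈ S ↔ e g ∈ K) : S.ncard = Nat.card K := by
  rw [← Set.ncard_image_of_injective S e.injective]
  change _ = (K : Set G).ncard
  congr 1; ext g
  exact ⟨by rintro ⟨g, hg, rfl⟩; exact (h g).1 hg, fun hg => ⟨e.symm g, (h _).2 (by simpa using hg), by simp⟩⟩

/-- the set of fixed points -/
abbrev Fx (Ω : Type*) [MulAction G Ω] (g : G) : Set Ω := {x | g • x = x}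

theorem orb (K : Subgroup G) (x : Ω) :
    {y | ∃ k ∈ K, k • x = y}.ncard * Nat.card ↥(K ⊓ stabilizer G x) = Nat.card K :=
  (ncard_fib (fun k : G => k • x) K {y | ∃ k ∈ K, k • x = y} _ (fun k hk => ⟨k, hk, rfl⟩) (by
    rintro _ ⟨k, hk, rfl⟩
    refine ncard_coset _ (Equiv.mulLeft k⁻¹) fun g => ?_
    simp only [Set.mem_setOf_eq, SetLike.mem_coe, Equiv.coe_mulLeft, mem_inf, mem_stabilizer_iff, mul_smul,
      inv_smul_eq_iff, mul_mem_cancel_left (inv_mem hk)])).symm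

theorem cardB (t : G) (P : Set G) : {g | g * t * g⁻¹ ∈ P}.ncard = {u | u ∈ P ∧ IsConj t u}.ncard * Nat.card (𝐂 t) :=
  ncard_fib (fun g => g * t * g⁻¹) _ _ _ (fun g hg => ⟨hg, isConj_conj g t⟩) (by
    rintro u ⟨hu, hc⟩
    obtain ⟨k, rfl⟩ := isConj_iff.1 hc
    refine ncard_coset _ (Equiv.mulLeft k⁻¹) fun g => ?_
    simp only [Set.mem_setOf_eq, Equiv.coe_mulLeft, mem_centralizer_singleton_iff]
    refine ⟨fun e => ?_, fun e => ?_⟩
    · calc k⁻¹ * g * t = k⁻¹ * (g * t * g⁻¹) * g := by group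
        _ = _ := by rw [e.2]; group
    · have : g * t * g⁻¹ = k * t * k⁻¹ := by
        calc g * t * g⁻¹ = k * (k⁻¹ * g * t) * g⁻¹ := by group
          _ = _ := by rw [e]; group
      exact ⟨this ▸ hu, this⟩)

theorem ncard_Fx_conj (k g : G) : (Fx Ω (k * g * k⁻¹)).ncard = (Fx Ω g).ncard := by
  rw [← Set.ncard_image_of_injective (Fx Ω g) (MulAction.injective k)]
  congr 1; ext x
  exact ⟨fun hx => ⟨k⁻¹ • x, conj_fix''.1 hx, by simp⟩, by rintro ⟨y, hy, rfl⟩; exact conj_fix.2 hy⟩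

/-- doubly transitive and faithful -/
structure T2 (G Ω : Type*) [Group G] [MulAction G Ω] : Prop where
  two : ∀ {a b c d : Ω}, a ≠ b → c ≠ d → ∃ g : G, g • a = c ∧ g • b = d
  faithful : ∀ {g : G}, (∀ a : Ω, g • a = a) → g = 1

theorem T2.card_E2 (H : T2 G Ω) (hab : a ≠ b) (hcd : c ≠ d) : Nat.card (E2 G c d) = Nat.card (E2 G a b) := by
  obtain ⟨g, rfl, rfl⟩ := H.two hab hcd
  exact card_eq_of_conj g fun _ => mem_E2_smul

theorem T2.cardA (H : T2 G Ω) (hab : a ≠ b) (R : Set (Ω × Ω)) (hR : ∀ p ∈ R, p.1 ≠ p.2) :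
    {g : G | (g⁻¹ • a, g⁻¹ • b) ∈ R}.ncard = R.ncard * Nat.card (E2 G a b) :=
  ncard_fib (fun g : G => (g⁻¹ • a, g⁻¹ • b)) _ _ _ (fun _ hg => hg) (by
    rintro ⟨x, y⟩ hp
    obtain ⟨k, rfl, rfl⟩ := H.two (hR _ hp) hab
    refine ncard_coset _ (Equiv.mulRight k⁻¹) fun g => ?_
    simp only [Set.mem_setOf_eq, Equiv.coe_mulRight, mem_E2, Prod.mk.injEq, mul_smul, inv_smul_smul, inv_smul_eq_iff]
    exact ⟨fun e => ⟨e.2.1.symm, e.2.2.symm⟩, fun e => ⟨by rw [← e.1, ← e.2]; simpa using hp, e.1.symm, e.2.symm⟩⟩)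

theorem T2.exists_move (H : T2 G Ω) (hg : g ≠ 1) : ∃ x : Ω, g • x ≠ x := by
  by_contra! e; exact hg (H.faithful e)

theorem dvd_of_fix (K : Subgroup G) (h : ∀ g ∈ K, g ≠ 1 → (Fx Ω g).ncard = i) (hi : i ≤ Nat.card Ω) :
    Nat.card K ∣ Nat.card Ω - i := by
  classical
  haveI := Fintype.ofFinite K
  haveI := Fintype.ofFinite Ω
  haveI := Fintype.ofFinite (Quotient (orbitRel K Ω))
  have := sum_card_fixedBy_eq_card_orbits_mul_card_group K Ω
  rw [← Finset.add_sum_erase _ _ (Finset.mem_univ 1), Finset.sum_congr rfl (g := fun _ => i) fun g hg => by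
    rw [← h g g.2 fun e => (Finset.mem_erase.1 hg).1 (Subtype.ext e), ← Nat.card_eq_fintype_card]; rfl,
    Finset.sum_const, Finset.card_erase_of_mem (Finset.mem_univ _), Finset.card_univ, smul_eq_mul] at this
  have e : Fintype.card (fixedBy Ω (1 : K)) = Fintype.card Ω := by simp
  rw [e] at this
  simp only [← Nat.card_eq_fintype_card] at this
  obtain ⟨m, hm⟩ : ∃ m, Nat.card K = m + 1 := ⟨_, (Nat.succ_pred_eq_of_pos Nat.card_pos).symm⟩
  rw [hm, Nat.add_sub_cancel] at this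
  rw [hm]
  refine (Nat.dvd_add_left (Dvd.intro i rfl)).1 ⟨Nat.card (Quotient (orbitRel K Ω)), ?_⟩
  rw [mul_comm (m + 1) (Nat.card _), ← this, add_mul, one_mul]; omega

theorem T2.swap (H : T2 G Ω) (ht : orderOf t = 2) (h : ∀ g ∈ (𝐂 t), g ≠ 1 → (Fx Ω g).ncard = i) (hab : a ≠ b) :
    Nat.card (𝐂 t) + i = Nat.card Ω ∧ ∀ s : G, Sw s a b → IsConj t s := by
  have h1 := h t (mem_centralizer_singleton_iff.2 rfl) (ne_one_of_two ht)
  have h2 := Set.ncard_add_ncard_compl (Fx Ω t)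
  obtain ⟨w, hw⟩ := H.exists_move (ne_one_of_two ht)
  have h3 : 0 < (Fx Ω t)ᶜ.ncard := (Set.ncard_pos (Set.toFinite _)).2 ⟨w, hw⟩
  have h4 := Nat.le_of_dvd (by omega) (dvd_of_fix _ h (by omega))
  have h5 := H.cardA hab ((fun x => (x, t • x)) '' (Fx Ω t)ᶜ) (by rintro _ ⟨x, hx, rfl⟩; exact fun e => hx e.symm)
  rw [Set.ncard_image_of_injective _ fun _ _ e => (Prod.mk.inj e).1] at h5
  have h6 := cardB t {s | Sw s a b}
  have h7 : {g : G | (g⁻¹ • a, g⁻¹ • b) ∈ (fun x => (x, t • x)) '' (Fx Ω t)ᶜ} = {g | g * t * g⁻¹ ∈ {s | Sw s a b}} := by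
    ext g
    refine ⟨?_, fun e => ?_⟩
    · rintro ⟨x, -, e⟩
      obtain ⟨e1, e2⟩ := Prod.mk.inj e
      have := (sw_of_mul_self (mul_self_of_two ht) x).conj g
      rwa [e2, e1, smul_inv_smul, smul_inv_smul] at this
    · have e1 : t • g⁻¹ • a = g⁻¹ • b := by rw [← (show Sw _ a b from e).ab]; simp [mul_smul]
      exact ⟨g⁻¹ • a, fun e' => hab (MulAction.injective g⁻¹ (e'.symm.trans e1)), by simp only [e1]⟩
  obtain ⟨s0, hs0⟩ := H.two hab hab.symm
  have h8 := ncard_sw (⟨hs0.1, hs0.2⟩ : Sw s0 a b)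
  have hsub : {u | u ∈ {s : G | Sw s a b} ∧ IsConj t u} ⊆ {s : G | Sw s a b} := fun _ h => h.1
  have h9 := Set.ncard_le_ncard hsub
  rw [h7, h6, ← h8] at h5
  have p1 : 0 < Nat.card (𝐂 t) := Nat.card_pos
  have p2 : 0 < {s : G | Sw s a b}.ncard := h8 ▸ Nat.card_pos
  have q1 : (Fx Ω t)ᶜ.ncard ≤ Nat.card (𝐂 t) :=
    Nat.le_of_mul_le_mul_right (by rw [← h5, mul_comm]; exact Nat.mul_le_mul_left _ h9) p2
  have q2 : (Fx Ω t)ᶜ.ncard = Nat.card (𝐂 t) := by omega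
  rw [q2, mul_comm] at h5
  refine ⟨by omega, fun s hs => ?_⟩
  have := Set.eq_of_subset_of_ncard_le hsub (Nat.eq_of_mul_eq_mul_left p1 h5).ge
  exact (this.ge hs).2

/-- the working hypothesis -/
structure U (G Ω : Type*) [Group G] [MulAction G Ω] (i : ℕ) : Prop extends T2 G Ω where
  fix : ∀ {u g : G}, orderOf u = 2 → g * u = u * g → g ≠ 1 → (Fx Ω g).ncard = i
  card : ∀ {u : G}, orderOf u = 2 → Nat.card (centralizer ({u} : Set G)) + i = Nat.card Ω
  sw : ∀ {s : G} {a b : Ω}, a ≠ b → Sw s a b → orderOf s = 2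
  conj : ∀ {u v : G}, orderOf u = 2 → orderOf v = 2 → IsConj u v
  ex : ∃ t : G, orderOf t = 2

theorem T2.toU (H : T2 G Ω) (ht : orderOf t = 2) (h : ∀ g ∈ (𝐂 t), g ≠ 1 → (Fx Ω g).ncard = i) : U G Ω i := by
  have key : ∀ {u : G}, orderOf u = 2 → IsConj t u := fun {u} hu => by
    obtain ⟨w, hw⟩ := H.exists_move (ne_one_of_two hu)
    exact (H.swap ht h hw.symm).2 u (sw_of_mul_self (mul_self_of_two hu) w)
  refine ⟨H, fun {u g} hu e h1 => ?_, fun {u} hu => ?_, fun hab hs => ?_, fun hu hv => (key hu).symm.trans (key hv), t, ht⟩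
  · obtain ⟨k, rfl⟩ := isConj_iff.1 (key hu)
    rw [← ncard_Fx_conj k⁻¹]
    refine h _ (mem_centralizer_singleton_iff.2 ?_) fun e' => h1 (conj_eq_one_iff.1 e')
    calc k⁻¹ * g * k⁻¹⁻¹ * t = k⁻¹ * (g * (k * t * k⁻¹)) * k := by group
      _ = _ := by rw [e]; group
  · obtain ⟨w, hw⟩ := H.exists_move (ne_one_of_two hu)
    rw [← card_centralizer_of_isConj (key hu)]; exact (H.swap ht h hw).1
  · rw [← orderOf_of_isConj ((H.swap ht h hab).2 _ hs), ht]

end Cfsg.Lib.UF
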