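import Cfsg.Agent.Lib.UF.A
import Cfsg.Agent.Lib.PGrp.Basic

/-! Doubly transitive groups with an involution whose centralizer has uniform fixity: no element fixes three points. -/

set_option autoImplicit false
set_option linter.unusedSectionVars false

namespace Cfsg.Lib.UF

open MulAction Subgroup Cfsg.Lib.BN Cfsg.Lib.Invol

variable {G Ω : Type*} [Group G] [Finite G] [MulAction G Ω] [Finite Ω] {a b c d x y z : Ω} {g h k s t u v : G} {i : ℕ}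

local notation "𝐂" g => centralizer ({g} : Set G)

theorem fix_of_comm (e : k * g = g * k) (hx : g • x = x) : g • k • x = k • x := by rw [← mul_smul, ← e, mul_smul, hx]

theorem third {S : Set Ω} (h : 3 ≤ S.ncard) (a b : Ω) : ∃ z ∈ S, z ≠ a ∧ z ≠ b := by
  by_contra! e
  have : S ⊆ {a, b} := fun z hz => (eq_or_ne z a).imp id (e z hz)
  have := (Set.ncard_le_ncard this).trans (Set.ncard_insert_le _ _)
  rw [Set.ncard_singleton] at this; omega

namespace U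
variable (H : U G Ω i)
include H

theorem exists_sw (hab : a ≠ b) : ∃ s : G, Sw s a b := let ⟨s, h⟩ := H.two hab hab.symm; ⟨s, h.1, h.2⟩

theorem inv (hab : a ≠ b) (hs : Sw s a b) (hg : g ∈ E2 G a b) : s * g * s⁻¹ = g⁻¹ := by
  rw [inv_of_two (H.sw hab hs), eq_inv_iff_mul_eq_one, mul_assoc]
  exact mul_self_of_two (H.sw hab (hs.mul_right hg))

theorem comm (hab : a ≠ b) (hg : g ∈ E2 G a b) (hk : k ∈ E2 G a b) : g * k = k * g := by
  obtain ⟨s, hs⟩ := H.exists_sw hab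
  have := H.inv hab hs (mul_mem hg hk)
  rw [← conj_mul, H.inv hab hs hg, H.inv hab hs hk, ← mul_inv_rev, inv_inj] at this
  exact this.symm

theorem fix_two (hu : orderOf u = 2) : (Fx Ω u).ncard = i := H.fix hu rfl (ne_one_of_two hu)

theorem sw_comm (hu : orderOf u = 2) (hab : a ≠ b) (hs : Sw s a b) (ha : u • a = a) (hb : u • b = b) : s * u = u * s := by
  have := H.inv hab hs ⟨ha, hb⟩; rwa [inv_of_two hu, mul_inv_eq_iff_eq_mul] at this

theorem one (hu : orderOf u = 2) (hx : u • x = x) : i * Nat.card ↥((𝐂 u) ⊓ stabilizer G x) = Nat.card (𝐂 u) := by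
  rw [← orb (𝐂 u) x, ← H.fix_two hu]
  congr 2; ext y
  refine ⟨fun hy => ?_, by rintro ⟨k, hk, rfl⟩; exact fix_of_comm (mem_centralizer_singleton_iff.1 hk) hx⟩
  rcases eq_or_ne x y with rfl | e
  · exact ⟨1, one_mem _, one_smul _ _⟩
  · obtain ⟨s, hs⟩ := H.exists_sw e
    exact ⟨s, mem_centralizer_singleton_iff.2 (H.sw_comm hu e hs hx hy), hs.ab⟩

theorem E2_le (hu : u ∈ E2 G a b) (hab : a ≠ b) : E2 G a b ≤ (𝐂 u) ⊓ stabilizer G a := fun _ hg =>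
  ⟨mem_centralizer_singleton_iff.2 (H.comm hab hg hu), hg.1⟩

theorem exists_two (hi : 2 ≤ i) (hab : a ≠ b) : ∃ u ∈ E2 G a b, orderOf u = 2 := by
  obtain ⟨t, ht⟩ := H.ex
  obtain ⟨x, y, hx, hy, e⟩ := (Set.one_lt_ncard_iff (Set.toFinite _)).1 (show 1 < (Fx Ω t).ncard by rw [H.fix_two ht]; omega)
  obtain ⟨k, rfl, rfl⟩ := H.two e hab
  exact ⟨_, conj_mem_E2.2 ⟨hx, hy⟩, by rw [orderOf_conj, ht]⟩

theorem mul_le (hu : orderOf u = 2) (hab : a ≠ b) (hE : u ∈ E2 G a b) : i * Nat.card (E2 G a b) + i ≤ Nat.card Ω := by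
  rw [← H.card hu, ← H.one hu hE.1]
  exact Nat.add_le_add_right (Nat.mul_le_mul_left _ (card_le_of_le (H.E2_le hE hab))) _

theorem cnt2 (hu : orderOf u = 2) (hab : a ≠ b) :
    i * (i - 1) * Nat.card (E2 G a b) = {v : G | v ∈ E2 G a b ∧ orderOf v = 2}.ncard * Nat.card (𝐂 u) := by
  have h1 := H.cardA hab (Fx Ω u).offDiag fun p hp => hp.2.2
  have h2 := cardB u {v : G | v ∈ E2 G a b}
  have h3 : (Fx Ω u).offDiag.ncard = i * (i - 1) := by
    rw [ncard_fib Prod.fst _ (Fx Ω u) (i - 1) (fun p hp => hp.1), H.fix_two hu]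
    intro x hx
    rw [← H.fix_two hu, ← Set.ncard_diff_singleton_of_mem hx,
      ← Set.ncard_image_of_injective (_ \ _) (f := fun y => (x, y)) fun _ _ e => (Prod.mk.inj e).2]
    congr 1; ext ⟨p, q⟩
    exact ⟨by rintro ⟨h, rfl⟩; exact ⟨q, ⟨h.2.1, h.2.2.symm⟩, rfl⟩, by
      rintro ⟨y, hy, e⟩; obtain ⟨rfl, rfl⟩ := Prod.mk.inj e; exact ⟨⟨hx, hy.1, Ne.symm hy.2⟩, rfl⟩⟩
  rw [← h3, ← h1, show {v : G | v ∈ E2 G a b ∧ orderOf v = 2} = {v | v ∈ {v : G | v ∈ E2 G a b} ∧ IsConj u v} from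
    Set.ext fun v => and_congr_right fun _ => ⟨H.conj hu, fun e => orderOf_of_isConj e ▸ hu⟩, ← h2]
  congr 1; ext g
  exact ⟨fun e => ⟨conj_fix''.2 e.1, conj_fix''.2 e.2.1⟩, fun e => ⟨conj_fix''.1 e.1, conj_fix''.1 e.2, fun e' =>
    hab (MulAction.injective g⁻¹ e')⟩⟩

theorem le_two : i ≤ 2 := by
  by_contra! hi
  obtain ⟨t, ht⟩ := H.ex
  obtain ⟨a, ha⟩ := H.exists_move (ne_one_of_two ht)
  generalize t • a = b at ha
  obtain ⟨u, hE, hu⟩ := H.exists_two (by omega) ha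
  set m := Nat.card (𝐂 u) with hm
  have hm0 : 0 < m := Nat.card_pos
  set e := {v : G | v ∈ E2 G b a ∧ orderOf v = 2}.ncard with he
  have he' : ∀ {x y : Ω}, x ≠ y → {v : G | v ∈ E2 G x y ∧ orderOf v = 2}.ncard = e := fun hxy =>
    Nat.eq_of_mul_eq_mul_right hm0 (by rw [← H.cnt2 hu hxy, ← H.cnt2 hu ha, H.card_E2 ha hxy])
  set r := Nat.card ↥((𝐂 u) ⊓ stabilizer G b) with hr
  have hr0 : 0 < r := Nat.card_pos
  have h1 : i * r = m := H.one hu hE.1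
  have hr' : ∀ {x : Ω}, u • x = x → Nat.card ↥((𝐂 u) ⊓ stabilizer G x) = r := fun hx =>
    Nat.eq_of_mul_eq_mul_left (by omega : 0 < i) (by rw [H.one hu hx, h1])
  -- double count of the pairs `(c, x)` with `c ∈ C(u)#` fixing `x`
  let P : Set (G × Ω) := {p | p.1 ∈ (𝐂 u) ∧ p.1 ≠ 1 ∧ p.1 • p.2 = p.2}
  have fibx : ∀ (S : Set Ω) (x : Ω), x ∈ S → {p | p ∈ P ∩ Prod.snd ⁻¹' S ∧ p.2 = x}.ncard =
      ((((𝐂 u) ⊓ stabilizer G x : Subgroup G) : Set G) \ {1}).ncard := fun S x hx => by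
    rw [← Set.ncard_image_of_injective (_ \ _) (f := fun c : G => (c, x)) fun _ _ e => (Prod.mk.inj e).1]
    congr 1; ext ⟨p, q⟩
    exact ⟨by rintro ⟨h, rfl⟩; exact ⟨p, ⟨⟨h.1.1, h.1.2.2⟩, h.1.2.1⟩, rfl⟩, by
      rintro ⟨y, hy, e⟩; obtain ⟨rfl, rfl⟩ := Prod.mk.inj e; exact ⟨⟨⟨hy.1.1, hy.2, hy.1.2⟩, hx⟩, rfl⟩⟩
  have c1 : P.ncard = (m - 1) * i := by
    rw [ncard_fib Prod.fst P (((𝐂 u : Subgroup G) : Set G) \ {1}) i (fun p hp => ⟨hp.1, hp.2.1⟩),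
      Set.ncard_diff_singleton_of_mem (one_mem _)]
    · rfl
    intro c hc
    rw [← H.fix hu (mem_centralizer_singleton_iff.1 hc.1) hc.2,
      ← Set.ncard_image_of_injective (Fx Ω c) (f := fun y => (c, y)) fun _ _ e => (Prod.mk.inj e).2]
    congr 1; ext ⟨p, q⟩
    exact ⟨by rintro ⟨h, rfl⟩; exact ⟨q, h.2.2, rfl⟩, by
      rintro ⟨y, hy, e⟩; obtain ⟨rfl, rfl⟩ := Prod.mk.inj e; exact ⟨⟨hc.1, hc.2, hy⟩, rfl⟩⟩
  have c2 : (P ∩ Prod.snd ⁻¹' Fx Ω u).ncard = i * (r - 1) := by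
    rw [ncard_fib Prod.snd _ (Fx Ω u) (r - 1) (fun p hp => hp.2), H.fix_two hu]
    intro x hx
    rw [fibx _ x hx, Set.ncard_diff_singleton_of_mem (one_mem _), ← hr' hx]; rfl
  have c3 : (P ∩ Prod.snd ⁻¹' (Fx Ω u)ᶜ).ncard = m * e := by
    have := Set.ncard_add_ncard_compl (Fx Ω u)
    rw [H.fix_two hu, ← H.card hu] at this
    rw [ncard_fib Prod.snd _ (Fx Ω u)ᶜ e (fun p hp => hp.2), show (Fx Ω u)ᶜ.ncard = m by omega]
    intro x hx
    have hx' : x ≠ u • x := fun e => hx e.symm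
    have hs := sw_of_mul_self (mul_self_of_two hu) x
    rw [fibx _ x hx, ← he' hx']
    congr 1; ext c
    refine ⟨fun hc => ?_, fun hc => ⟨⟨mem_centralizer_singleton_iff.2 (H.sw_comm hc.2 hx' hs hc.1.1 hc.1.2).symm, hc.1.1⟩,
      ne_one_of_two hc.2⟩⟩
    have e1 := mem_centralizer_singleton_iff.1 hc.1.1
    have e2 : c ∈ E2 G x (u • x) := ⟨hc.1.2, fix_of_comm e1.symm hc.1.2⟩
    have e3 := H.inv hx' hs e2
    rw [← e1, mul_inv_cancel_right, eq_inv_iff_mul_eq_one] at e3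
    exact ⟨e2, two_of_mul_self e3 hc.2⟩
  have c4 := Set.ncard_inter_add_ncard_diff_eq_ncard P (Prod.snd ⁻¹' Fx Ω u)
  rw [Set.diff_eq, ← Set.preimage_compl, c1, c2, c3] at c4
  obtain ⟨r', hr1⟩ : ∃ r', r = r' + 1 := ⟨r - 1, by omega⟩
  obtain ⟨j, rfl⟩ : ∃ j, i = j + 1 := ⟨i - 1, by omega⟩
  have hej : e = j := by
    obtain ⟨m', hm1⟩ : ∃ m', m = m' + 1 := ⟨m - 1, by omega⟩
    rw [hr1, hm1, Nat.add_sub_cancel, Nat.add_sub_cancel] at c4
    rw [hr1, hm1] at h1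
    exact Nat.eq_of_mul_eq_mul_left (Nat.succ_pos m') (by nlinarith)
  have h2 := H.cnt2 hu ha
  rw [← he, hej, Nat.add_sub_cancel, ← hm, ← h1, mul_comm (j + 1), mul_assoc] at h2
  have h3 : Nat.card (E2 G b a) = r :=
    Nat.eq_of_mul_eq_mul_left (Nat.succ_pos j) (Nat.eq_of_mul_eq_mul_left (by omega : 0 < j) h2)
  have h4 : ∀ {v : G} {x y : Ω}, orderOf v = 2 → x ≠ y → v • x = x → v • y = y → E2 G x y = (𝐂 v) ⊓ stabilizer G x :=
    fun {v x y} hv hxy hx hy => PGrp.eq_of_le_of_card_le (H.E2_le ⟨hx, hy⟩ hxy) (by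
      rw [H.card_E2 ha hxy, h3]
      refine (Nat.eq_of_mul_eq_mul_left (Nat.succ_pos j) ?_).le
      rw [H.one hv hx, h1, hm, card_centralizer_of_isConj (H.conj hv hu)])
  have h5 : ∀ g ∈ E2 G b a, ∀ {z : Ω}, u • z = z → g • z = z := fun g hg z hz => by
    rcases eq_or_ne b z with rfl | e
    · exact hg.1
    · rw [h4 hu ha hE.1 hE.2, ← h4 hu e hE.1 hz] at hg; exact hg.2
  -- the two-point stabilizer is elementary abelian
  have h6 : ∀ g ∈ E2 G b a, g * g = 1 := fun g hg => by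
    obtain ⟨z, hz, z1, z2⟩ := third (show 3 ≤ (Fx Ω u).ncard by rw [H.fix_two hu]; omega) b a
    obtain ⟨s, hs⟩ := H.exists_sw ha
    obtain ⟨s', hs'⟩ := H.exists_sw z1.symm
    have e1 := H.sw_comm hu ha hs hE.1 hE.2
    have e2 := H.sw_comm hu z1.symm hs' hE.1 hz
    have hw : u • s • z = s • z := fix_of_comm e1 hz
    have hb : b ≠ s • z := fun e => z2 (MulAction.injective s (e.symm.trans hs.ba.symm))
    obtain ⟨w, hw'⟩ := H.exists_sw hb
    have e3 := H.sw_comm hu hb hw' hE.1 hw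
    have k1 : w⁻¹ * (s * s') ∈ E2 G b a := by
      rw [h4 hu ha hE.1 hE.2]
      refine mem_inf.2 ⟨mul_mem (inv_mem (mem_centralizer_singleton_iff.2 e3))
        (mul_mem (mem_centralizer_singleton_iff.2 e1) (mem_centralizer_singleton_iff.2 e2)), ?_⟩
      change _ • b = b
      rw [mul_smul, mul_smul, hs'.ab, inv_smul_eq_iff, hw'.ab]
    have k2 := H.inv hb (hw'.mul_right ⟨k1.1, h5 _ k1 hw⟩) (g := g) ⟨hg.1, h5 _ hg hw⟩
    have k3 := H.inv z1.symm hs' (g := g) ⟨hg.1, h5 _ hg hz⟩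
    have k4 := H.inv ha hs (inv_mem hg)
    rw [mul_inv_cancel_left, show s * s' * g * (s * s')⁻¹ = s * (s' * g * s'⁻¹) * s⁻¹ by group, k3, k4, inv_inv,
      eq_inv_iff_mul_eq_one] at k2
    exact k2
  have h7 : r = j + 1 := by
    have : {v : G | v ∈ E2 G b a ∧ orderOf v = 2} = (E2 G b a : Set G) \ {1} :=
      Set.ext fun v => and_congr_right fun hv => ⟨ne_one_of_two, two_of_mul_self (h6 v hv)⟩
    rw [this, Set.ncard_diff_singleton_of_mem (one_mem _)] at he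
    change e = Nat.card (E2 G b a) - 1 at he
    omega
  have h8 := ncard_fib (fun y => E2 G b y) {b}ᶜ _ j (fun y hy => Set.mem_image_of_mem _ hy) (by
    rintro _ ⟨y, hy, rfl⟩
    obtain ⟨v, hv, hv2⟩ := H.exists_two (by omega) (Ne.symm hy)
    rw [show j = j + 1 - 1 from rfl, ← H.fix_two hv2, ← Set.ncard_diff_singleton_of_mem (show b ∈ Fx Ω v from hv.1)]
    congr 1; ext z
    exact ⟨fun hz => ⟨(hz.2.symm ▸ hv : v ∈ E2 G b z).2, hz.1⟩, fun hz => ⟨hz.2, by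
      rw [h4 hv2 (Ne.symm hz.2) hv.1 hz.1, h4 hv2 (Ne.symm hy) hv.1 hv.2]⟩⟩)
  have h9 := Set.ncard_add_ncard_compl ({b} : Set Ω)
  rw [Set.ncard_singleton, h8, ← H.card hu, ← hm, ← h1, h7] at h9
  generalize Set.ncard (_ : Set (Subgroup G)) = N at h9
  have : j ∣ 1 := (Nat.dvd_add_right (Dvd.intro (j + 3) rfl)).1 ⟨N, by nlinarith⟩
  have := Nat.le_of_dvd one_pos this
  omega

end U
end Cfsg.Lib.UF
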