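import Cfsg.Agent.Lib.UF.B

/-! Doubly transitive groups with an involution whose centralizer has uniform fixity: the Zassenhaus condition. -/

set_option autoImplicit false
set_option linter.unusedSectionVars false

namespace Cfsg.Lib.UF

open MulAction Subgroup Cfsg.Lib.BN Cfsg.Lib.Invol

variable {G Ω : Type*} [Group G] [Finite G] [MulAction G Ω] [Finite Ω] {a b c d x y z : Ω} {g h k s t u v : G} {i : ℕ}

local notation "𝐂" g => centralizer ({g} : Set G)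

theorem three_le {S : Set Ω} (hx : x ∈ S) (hy : y ∈ S) (hz : z ∈ S) (h1 : x ≠ y) (h2 : y ≠ z) (h3 : x ≠ z) : 3 ≤ S.ncard :=
  (Set.two_lt_ncard_iff (Set.toFinite _)).2 ⟨x, y, z, hx, hy, hz, h1, h3, h2⟩

namespace U
variable (H : U G Ω i)
include H

theorem odd_cent (h1 : g ≠ 1) (h3 : 3 ≤ (Fx Ω g).ncard) : Odd (Nat.card (𝐂 g)) :=
  odd_card_iff.2 fun u hu h2 => by
    have := H.fix h2 (mem_centralizer_singleton_iff.1 hu).symm h1
    have := H.le_two; omega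

theorem trans (h3 : 3 ≤ (Fx Ω g).ncard) (hx : g • x = x) (hy : g • y = y) : ∃ k ∈ (𝐂 g), k • x = y := by
  obtain ⟨z, hz, z1, z2⟩ := third h3 x y
  obtain ⟨s, hs⟩ := H.exists_sw z1.symm
  obtain ⟨s', hs'⟩ := H.exists_sw z2
  refine ⟨s' * s, mem_centralizer_singleton_iff.2 ?_, by rw [mul_smul, hs.ab, hs'.ab]⟩
  have e1 := H.inv z1.symm hs (g := g) ⟨hx, hz⟩
  have e2 := H.inv z2 hs' (inv_mem (show g ∈ E2 G z y from ⟨hz, hy⟩))
  rw [← mul_inv_eq_iff_eq_mul, show s' * s * g * (s' * s)⁻¹ = s' * (s * g * s⁻¹) * s'⁻¹ by group, e1, e2, inv_inv]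

/-- an involution inverting `g` and fixing a given fixed point of `g` -/
theorem exists_inv (h1 : g ≠ 1) (h3 : 3 ≤ (Fx Ω g).ncard) (hx : g • x = x) :
    ∃ s : G, orderOf s = 2 ∧ s • x = x ∧ s * g * s⁻¹ = g⁻¹ := by
  classical
  haveI := fact_two
  obtain ⟨y, hy, e, -⟩ := third h3 x x
  obtain ⟨s, hs⟩ := H.exists_sw e.symm
  have h2 := H.sw e.symm hs
  have e1 := H.inv e.symm hs (g := g) ⟨hx, hy⟩
  have hm : ∀ w ∈ Fx Ω g, s • w ∈ Fx Ω g := fun w hw => by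
    have : (s * g * s⁻¹) • s • w = s • w := conj_fix.2 hw
    rw [e1, inv_smul_eq_iff] at this; exact this.symm
  have ho : Odd (Fx Ω g).ncard := by
    have := orb (𝐂 g) x
    rw [show {y | ∃ k ∈ (𝐂 g), k • x = y} = Fx Ω g from Set.ext fun w => ⟨by
      rintro ⟨k, hk, rfl⟩; exact fix_of_comm (mem_centralizer_singleton_iff.1 hk) hx, H.trans h3 hx⟩] at this
    exact (H.odd_cent h1 h3).of_dvd_nat (Dvd.intro _ this)
  haveI := Fintype.ofFinite (Fx Ω g)
  have hi : Function.Involutive fun w : Fx Ω g => (⟨s • (w : Ω), hm _ w.2⟩ : Fx Ω g) := fun w =>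
    Subtype.ext (by change s • s • (w : Ω) = w; rw [← mul_smul, mul_self_of_two h2, one_smul])
  obtain ⟨w, hw⟩ := Equiv.Perm.exists_fixed_point_of_prime (p := 2) (n := 1) (σ := hi.toPerm _) (by
    rw [← Nat.card_eq_fintype_card]; exact ho.not_two_dvd_nat) (by ext w; exact congrArg Subtype.val (hi w))
  obtain ⟨k, hk, e⟩ := H.trans h3 w.2 hx
  have hk := mem_centralizer_singleton_iff.1 hk
  refine ⟨k * s * k⁻¹, by rw [orderOf_conj, h2], e ▸ conj_fix.2 (congrArg Subtype.val hw), ?_⟩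
  calc k * s * k⁻¹ * g * (k * s * k⁻¹)⁻¹ = k * s * k⁻¹ * (g * k) * s⁻¹ * k⁻¹ := by group
    _ = k * (s * g * s⁻¹) * k⁻¹ := by rw [← hk]; group
    _ = (k * g * k⁻¹)⁻¹ := by rw [e1]; group
    _ = _ := by rw [hk]; group

theorem eq_one (h1 : g ≠ 1) (h3 : 3 ≤ (Fx Ω g).ncard) : i = 1 := by
  obtain ⟨x, hx⟩ : (Fx Ω g).Nonempty := Set.nonempty_of_ncard_ne_zero (by omega)
  obtain ⟨s, hs, e, -⟩ := H.exists_inv h1 h3 hx
  have h2 : (Fx Ω s).ncard ≠ 0 := Set.ncard_ne_zero_of_mem (show x ∈ Fx Ω s from e)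
  rw [H.fix_two hs] at h2
  by_contra hi
  obtain ⟨y, hy, e, -⟩ := third h3 x x
  obtain ⟨u, hu, h4⟩ := H.exists_two (by omega) e
  exact odd_card_iff.1 (H.odd_cent h1 h3) u (mem_centralizer_singleton_iff.2 (H.comm e hu ⟨hy, hx⟩)) h4

end U

namespace U
variable (H : U G Ω 1)
include H

theorem uniq (hu : orderOf u = 2) (e : g * u = u * g) (h1 : g ≠ 1) (hx : g • x = x) (hy : g • y = y) : x = y :=
  (Set.ncard_le_one (Set.toFinite _)).1 (H.fix hu e h1).le x hx y hy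

theorem reg (hu : orderOf u = 2) (hx : u • x = x) (hy : y ≠ x) (hz : z ≠ x) : ∃ k ∈ (𝐂 u), k • y = z := by
  have fx : ∀ k ∈ (𝐂 u), k • x = x := fun k hk =>
    H.uniq hu rfl (ne_one_of_two hu) (fix_of_comm (mem_centralizer_singleton_iff.1 hk) hx) hx
  have h1 := orb (𝐂 u) y
  rw [show (𝐂 u) ⊓ stabilizer G y = ⊥ from eq_bot_iff.2 fun k hk => Classical.by_contradiction fun e =>
    hy (H.uniq hu (mem_centralizer_singleton_iff.1 hk.1) e hk.2 (fx k hk.1)), card_bot, mul_one] at h1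
  have h2 := Set.ncard_add_ncard_compl ({x} : Set Ω)
  have h3 := H.card hu
  rw [Set.ncard_singleton] at h2
  exact (Set.eq_of_subset_of_ncard_le (s := {w | ∃ k ∈ (𝐂 u), k • y = w}) (t := {x}ᶜ) (by
    rintro _ ⟨k, hk, rfl⟩ e; exact hy (MulAction.injective k (e.trans (fx k hk).symm))) (by omega)).ge hz

theorem conjE (hu : orderOf u = 2) (hv : orderOf v = 2) (hx : u • x = x) (hx' : v • x = x) (hy : y ≠ x) :
    ∃ k ∈ E2 G x y, k * u * k⁻¹ = v := by
  obtain ⟨g, rfl⟩ := isConj_iff.1 (H.conj hu hv)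
  have h1 : g⁻¹ • x = x := H.uniq hu rfl (ne_one_of_two hu) (conj_fix''.1 hx') hx
  obtain ⟨k, hk, e⟩ := H.reg hu hx hy (z := g⁻¹ • y) fun e => hy (MulAction.injective g⁻¹ (e.trans h1.symm))
  have hk' := mem_centralizer_singleton_iff.1 hk
  refine ⟨g * k, ⟨?_, ?_⟩, ?_⟩
  · change _ • x = x
    rw [mul_smul, H.uniq hu rfl (ne_one_of_two hu) (fix_of_comm hk' hx) hx, ← h1, smul_inv_smul, h1]
  · change _ • y = y
    rw [mul_smul, e, smul_inv_smul]
  · rw [mul_assoc g, hk']; group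

theorem inv_all (h3 : 3 ≤ (Fx Ω g).ncard) (hx : g • x = x) (hv : orderOf v = 2) (hvx : v • x = x) :
    v * g * v⁻¹ = g⁻¹ := by
  rcases eq_or_ne g 1 with rfl | h1
  · simp
  obtain ⟨s, hs, e1, e2⟩ := H.exists_inv h1 h3 hx
  obtain ⟨y, hy, e, -⟩ := third h3 x x
  obtain ⟨k, hk, rfl⟩ := H.conjE hs hv e1 hvx e
  have hk := H.comm e.symm hk (show g ∈ E2 G x y from ⟨hx, hy⟩)
  calc k * s * k⁻¹ * g * (k * s * k⁻¹)⁻¹ = k * s * k⁻¹ * (g * k) * s⁻¹ * k⁻¹ := by group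
    _ = k * (s * g * s⁻¹) * k⁻¹ := by rw [← hk]; group
    _ = (k * g * k⁻¹)⁻¹ := by rw [e2]; group
    _ = _ := by rw [hk]; group

theorem not_three (h1 : g ≠ 1) (h3 : 3 ≤ (Fx Ω g).ncard) : False := by
  obtain ⟨x, hx⟩ : (Fx Ω g).Nonempty := Set.nonempty_of_ncard_ne_zero (by omega)
  obtain ⟨u, hu, hux, -⟩ := H.exists_inv h1 h3 hx
  obtain ⟨y, hy, hyx, -⟩ := third h3 x x
  let P : G → Prop := fun a => a • x = x ∧ Odd (orderOf a) ∧ ∀ v : G, orderOf v = 2 → v • x = x → v * a * v⁻¹ = a⁻¹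
  have hc : ∀ {a b : G}, P a → P b → Commute a b := fun {a b} ha hb => by
    have e1 := ha.2.2 u hu hux
    have e2 := hb.2.2 u hu hux
    have e3 := hb.2.2 (a⁻¹ * u * a) (by rw [orderOf_conj', hu]) (conj_fix'.2 (by rw [ha.1, hux]))
    have e4 : u * (a⁻¹ * u * a) = a ^ 2 := by
      calc u * (a⁻¹ * u * a) = (u * a * u⁻¹)⁻¹ * (u * u) * a := by group
        _ = _ := by rw [e1, mul_self_of_two hu, inv_inv, mul_one, sq]
    have e5 : Commute (a ^ 2) b := by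
      rw [← e4, Commute, SemiconjBy, ← mul_inv_eq_iff_eq_mul]
      calc _ = u * (a⁻¹ * u * a * b * (a⁻¹ * u * a)⁻¹) * u⁻¹ := by group
        _ = (u * b * u⁻¹)⁻¹ := by rw [e3]; group
        _ = b := by rw [e2, inv_inv]
    obtain ⟨m, hm⟩ := exists_pow_eq_self_of_coprime (x := a) (n := 2) (Nat.coprime_two_left.2 ha.2.1)
    exact hm ▸ e5.pow_left m
  let A : Subgroup G :=
    { carrier := {a | P a}
      one_mem' := ⟨one_smul _ _, by simp, by simp⟩
      mul_mem' := fun {a b} ha hb => ⟨by rw [mul_smul, hb.1, ha.1],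
        (ha.2.1.mul hb.2.1).of_dvd_nat (hc ha hb).orderOf_mul_dvd_mul_orderOf, fun v hv e => by
          rw [← conj_mul, ha.2.2 v hv e, hb.2.2 v hv e, (hc ha hb).eq, mul_inv_rev]⟩
      inv_mem' := fun {a} ha => ⟨by rw [inv_smul_eq_iff, ha.1], by rw [orderOf_inv]; exact ha.2.1, fun v hv e => by
        rw [← conj_inv, ha.2.2 v hv e]⟩ }
  have hA : ∀ a : G, a • x = x → 3 ≤ (Fx Ω a).ncard → a ∈ A := fun a ha h3 => ⟨ha, by
    rcases eq_or_ne a 1 with rfl | e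
    · simp
    · exact odd_orderOf_of_mem (H.odd_cent e h3) (mem_centralizer_singleton_iff.2 rfl), fun v => H.inv_all h3 ha⟩
  have hn : ∀ k : G, k • x = x → ∀ a ∈ A, k * a * k⁻¹ ∈ A := fun k hk a ha =>
    ⟨conj_fix''.2 (by rw [inv_smul_eq_iff.2 hk.symm, ha.1]), by rw [orderOf_conj]; exact ha.2.1, fun v hv e => by
      have := ha.2.2 (k⁻¹ * v * k) (by rw [orderOf_conj', hv]) (conj_fix'.2 (by rw [hk, e]))
      calc v * (k * a * k⁻¹) * v⁻¹ = k * (k⁻¹ * v * k * a * (k⁻¹ * v * k)⁻¹) * k⁻¹ := by group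
        _ = _ := by rw [this]; group⟩
  have c1 : Nat.card A ≤ Nat.card (E2 G x y) := by
    have : ∀ a : A, ∃ k : E2 G x y, k * u * (k : G)⁻¹ = u * a := fun a => by
      obtain ⟨k, hk, e⟩ := H.conjE (v := u * a) hu (two_of_mul_self (by
        have := a.2.2.2 u hu hux
        rw [inv_of_two hu, eq_inv_iff_mul_eq_one, mul_assoc] at this; exact this) fun e => by
          have := a.2.2.1
          rw [eq_inv_of_mul_eq_one_right e, orderOf_inv, hu] at this; exact absurd this (by decide)) hux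
        (by rw [mul_smul, a.2.1, hux]) hyx
      exact ⟨⟨k, hk⟩, e⟩
    choose f hf using this
    exact Nat.card_le_card_of_injective f fun a b e => Subtype.ext (mul_left_cancel (a := u) (by rw [← hf, ← hf, e]))
  obtain ⟨a, ha, hay⟩ : ∃ a ∈ A, a • y ≠ y := by
    by_contra! e
    refine h1 (H.faithful fun w => ?_)
    rcases eq_or_ne x w with rfl | hw
    · exact hx
    obtain ⟨k, k1, k2⟩ := H.two hw hyx.symm
    have := e _ (hn k k1 g (hA g hx h3))
    rwa [← k2, conj_fix] at this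
  have hax : a • y ≠ x := fun e => hyx (MulAction.injective a (e.trans ha.1.symm))
  have c2 := orb A y
  have c3 := orb (E2 G x y) (a • y)
  have c4 : Nat.card ↥(E2 G x y ⊓ stabilizer G (a • y)) ≤ Nat.card ↥(A ⊓ stabilizer G y) :=
    card_le_of_le fun k hk => ⟨hA k hk.1.1 (three_le hk.1.1 hk.1.2 hk.2 hyx.symm hay.symm hax.symm), hk.1.2⟩
  have c5 : {w | ∃ k ∈ E2 G x y, k • a • y = w}.ncard < {w | ∃ k ∈ A, k • y = w}.ncard :=
    Set.ncard_lt_ncard ⟨by
      rintro _ ⟨k, hk, rfl⟩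
      exact ⟨_, hn k hk.1 a ha, by rw [mul_smul, mul_smul, inv_smul_eq_iff.2 (show y = k • y from hk.2.symm)]⟩, fun e => by
      obtain ⟨k, hk, e⟩ := e (show y ∈ _ from ⟨1, one_mem _, one_smul _ _⟩)
      exact hay (MulAction.injective k (e.trans hk.2.symm))⟩
  have := Nat.mul_lt_mul_of_lt_of_le c5 c4 Nat.card_pos
  omega

end U

theorem U.three (H : U G Ω i) (h1 : x ≠ y) (h2 : y ≠ z) (h3 : x ≠ z) (hx : g • x = x) (hy : g • y = y) (hz : g • z = z) :
    g = 1 := by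
  by_contra e
  have := three_le (S := Fx Ω g) hx hy hz h1 h2 h3
  obtain rfl := H.eq_one e this
  exact H.not_three e this

end Cfsg.Lib.UF
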